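import Cfsg.Agent.Lib.Schur.Co2.Data2
import Cfsg.Agent.Lib.Schur.TailsDensePerm
import Cfsg.Agent.Lib.Sporadic.OutCert.Co2.Data

/-!
Kernel checks of the data for the 2-part of the multiplier of the second Conway group.
-/

set_option autoImplicit false
set_option maxRecDepth 100000
set_option maxHeartbeats 0

namespace CfsgLib.Schur.Sporadic.Co2

open CfsgLib.Sporadic.OutCert

theorem rels2_ok : Tails.relK 12 2300 kk2 cert2 = true := by decide +kernel

end CfsgLib.Schur.Sporadic.Co2
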