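import Cfsg.Agent.Lib.Schur.Co2.Data2
import Cfsg.Agent.Lib.Schur.Co2.Check2Slp0
import Cfsg.Agent.Lib.Schur.Co2.Check2Slp1
import Cfsg.Agent.Lib.Schur.Co2.Check2Slp2
import Cfsg.Agent.Lib.Schur.Co2.Check2Slp3
import Cfsg.Agent.Lib.Schur.Co2.Check2Slp4
import Cfsg.Agent.Lib.Schur.Co2.Check2Rels
import Cfsg.Agent.Lib.Schur.Co2.Check2Fus
import Cfsg.Agent.Lib.Schur.Co2.Check2Eqs
import Cfsg.Agent.Lib.Schur.TailsDensePerm
import Cfsg.Agent.Lib.Sporadic.OutCert.Co2.Data

/-!
Kernel checks of the data for the 2-part of the multiplier of the second Conway group.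
-/

set_option autoImplicit false
set_option maxRecDepth 100000
set_option maxHeartbeats 0

namespace CfsgLib.Schur.Sporadic.Co2

open CfsgLib.Sporadic.OutCert

theorem slp2_len : slpTab2.length = 3 + slpW2.length ∧ slpW2.length ≤ 5 * 100 := by decide +kernel

theorem slp2_base : slpTab2.take 3 = [Co2.ka, Co2.kn, Co2.kb] := by decide +kernel

theorem slp2_ok : Tails.slpK 12 2300 3 slpTab2 slpW2 = true ∧
    slpTab2.take 3 = [Co2.ka, Co2.kn, Co2.kb] := by
  refine ⟨Tails.slpK_of_parts slp2_len.1 slp2_len.2 fun k hk => ?_, slp2_base⟩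
  match k, hk with
  | 0, _ => exact slp2_part0
  | 1, _ => exact slp2_part1
  | 2, _ => exact slp2_part2
  | 3, _ => exact slp2_part3
  | 4, _ => exact slp2_part4
  | k + 5, h => exact absurd h (Nat.not_lt.2 (Nat.le_add_left 5 k))

theorem pick2_ok : Tails.pickK 12 2300 slpTab2 ids2 kk2 = true ∧
    Tails.pickK 12 2300 slpTab2 gids2 gk2 = true := by decide +kernel

theorem chain2_ok : Tails.chainK 12 2300 kk2 lev2 lvw2 0 cert2.r (2 ^ 18) = true := by decide +kernel

theorem chain2in_ok : Tails.chainK 12 2300 kk2 lev2in lvw2in cert2.a cert2.r (2 ^ 13) = true := by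
  decide +kernel

theorem cert2_comb : Tails.Dense.combOK cert2 dense2 = true := by decide +kernel

theorem cert2_shape : cert2.shapeOK = true ∧ cert2.p = 2 ∧ cert2.r = 18 ∧ cert2.r - cert2.a = 13 ∧
    dense2.b = 1 ∧ ¬ 2 ^ (18 + 1) ∣ 42305421312000 ∧ ¬ 2 ∣ 161382375 ∧ 42305421312000 ∣ dense2.q * 161382375 := by decide +kernel

theorem ord_ok : Tails.pickK 12 2300 slpTab2 ordIds ordK = true ∧
    ((List.range 3).all fun i => testK 12 2300 [ordK.getD i 0] ([7, 11, 23].getD i 0) &&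
      !(ordK.getD i 0 == oneK 12 2300) && ordK.getD i 0 == pkF 12 (lk 12 (ordK.getD i 0)) 2300 0) = true ∧
    ordK.length = 3 := by decide +kernel

end CfsgLib.Schur.Sporadic.Co2
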