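import Cfsg.Agent.Lib.Schur.Co2.Data3
import Cfsg.Agent.Lib.Schur.TailsDensePerm
import Cfsg.Agent.Lib.Sporadic.OutCert.Co2.Data

/-!
Kernel checks of the data for the 3-part of the multiplier of the second Conway group.
-/

set_option autoImplicit false
set_option maxRecDepth 100000
set_option maxHeartbeats 0

namespace CfsgLib.Schur.Sporadic.Co2

open CfsgLib.Sporadic.OutCert

theorem slp3_ok : Tails.slpK 12 2300 3 slpTab3 slpW3 = true ∧
    slpTab3.take 3 = [Co2.ka, Co2.kn, Co2.kb] := by decide +kernel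

theorem pick3_ok : Tails.pickK 12 2300 slpTab3 ids3 kk3 = true ∧
    Tails.pickK 12 2300 slpTab3 gids3 gk3 = true := by decide +kernel

theorem rels3_ok : Tails.relK 12 2300 kk3 cert3 = true := by decide +kernel

theorem fus3_ok : Tails.fusK 12 2300 kk3 gk3 cert3 = true := by decide +kernel

theorem chain3_ok : Tails.chainK 12 2300 kk3 lev3 lvw3 0 cert3.r (3 ^ 6) = true := by decide +kernel

theorem chain3in_ok : Tails.chainK 12 2300 kk3 lev3in lvw3in cert3.a cert3.r (3 ^ 3) = true := by
  decide +kernel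

theorem cert3_eqs : Tails.Dense.eqsOK cert3 dense3 = true := by decide +kernel

theorem cert3_comb : Tails.Dense.combOK cert3 dense3 = true := by decide +kernel

theorem cert3_shape : cert3.shapeOK = true ∧ cert3.p = 3 ∧ cert3.r = 6 ∧ cert3.r - cert3.a = 3 ∧
    dense3.b = 1 ∧ ¬ 3 ^ (6 + 1) ∣ 42305421312000 ∧ ¬ 3 ∣ 58032128000 ∧ 42305421312000 ∣ dense3.q * 58032128000 := by decide +kernel

end CfsgLib.Schur.Sporadic.Co2
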