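import Cfsg.Agent.Lib.Schur.Co2.Data5
import Cfsg.Agent.Lib.Schur.TailsDensePerm
import Cfsg.Agent.Lib.Sporadic.OutCert.Co2.Data

/-!
Kernel checks of the data for the 5-part of the multiplier of the second Conway group.
-/

set_option autoImplicit false
set_option maxRecDepth 100000
set_option maxHeartbeats 0

namespace CfsgLib.Schur.Sporadic.Co2

open CfsgLib.Sporadic.OutCert

theorem slp5_part2 : Tails.slpPartK 12 2300 3 slpTab5 slpW5 (2 * 100) 100 = true := by
  decide +kernel

end CfsgLib.Schur.Sporadic.Co2
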