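import Cfsg.Agent.Lib.Schur.Co2.Data5
import Cfsg.Agent.Lib.Schur.Co2.Check5Slp0
import Cfsg.Agent.Lib.Schur.Co2.Check5Slp1
import Cfsg.Agent.Lib.Schur.Co2.Check5Slp2
import Cfsg.Agent.Lib.Schur.TailsDensePerm
import Cfsg.Agent.Lib.Sporadic.OutCert.Co2.Data

/-!
Kernel checks of the data for the 5-part of the multiplier of the second Conway group.
-/

set_option autoImplicit false
set_option maxRecDepth 100000
set_option maxHeartbeats 0

namespace CfsgLib.Schur.Sporadic.Co2

open CfsgLib.Sporadic.OutCert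

theorem slp5_len : slpTab5.length = 3 + slpW5.length ∧ slpW5.length ≤ 3 * 100 := by decide +kernel

theorem slp5_base : slpTab5.take 3 = [Co2.ka, Co2.kn, Co2.kb] := by decide +kernel

theorem slp5_ok : Tails.slpK 12 2300 3 slpTab5 slpW5 = true ∧
    slpTab5.take 3 = [Co2.ka, Co2.kn, Co2.kb] := by
  refine ⟨Tails.slpK_of_parts slp5_len.1 slp5_len.2 fun k hk => ?_, slp5_base⟩
  match k, hk with
  | 0, _ => exact slp5_part0
  | 1, _ => exact slp5_part1
  | 2, _ => exact slp5_part2
  | k + 3, h => exact absurd h (Nat.not_lt.2 (Nat.le_add_left 3 k))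

theorem pick5_ok : Tails.pickK 12 2300 slpTab5 ids5 kk5 = true ∧
    Tails.pickK 12 2300 slpTab5 gids5 gk5 = true := by decide +kernel

theorem rels5_ok : Tails.relK 12 2300 kk5 cert5 = true := by decide +kernel

theorem fus5_ok : Tails.fusK 12 2300 kk5 gk5 cert5 = true := by decide +kernel

theorem chain5_ok : Tails.chainK 12 2300 kk5 lev5 lvw5 0 cert5.r (5 ^ 3) = true := by decide +kernel

theorem chain5in_ok : Tails.chainK 12 2300 kk5 lev5in lvw5in cert5.a cert5.r (5 ^ 1) = true := by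
  decide +kernel

theorem cert5_eqs : Tails.Dense.eqsOK cert5 dense5 = true := by decide +kernel

theorem cert5_comb : Tails.Dense.combOK cert5 dense5 = true := by decide +kernel

theorem cert5_shape : cert5.shapeOK = true ∧ cert5.p = 5 ∧ cert5.r = 3 ∧ cert5.r - cert5.a = 1 ∧
    dense5.b = 1 ∧ ¬ 5 ^ (3 + 1) ∣ 42305421312000 ∧ ¬ 5 ∣ 338443370496 ∧ 42305421312000 ∣ dense5.q * 338443370496 := by decide +kernel

end CfsgLib.Schur.Sporadic.Co2
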