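import Cfsg.Agent.Lib.Schur.Co2.Check2
import Cfsg.Agent.Lib.Schur.Co2.Check3
import Cfsg.Agent.Lib.Schur.Co2.Check5
import Cfsg.Agent.Lib.Sporadic.OutCert.Co2.Group

/-!
The multiplier of the second Conway group is trivial.
-/

set_option autoImplicit false
set_option maxRecDepth 100000

namespace CfsgLib.Schur.Sporadic.Co2

open CfsgLib.Sporadic.OutCert

attribute [local irreducible] lk pkF allF compK slpTab2 slpTab3 slpTab5 kk2 kk3 kk5 gk2 gk3 gk5 ordK

theorem base_mem {tab : List ℕ} (h : tab.take 3 = [Co2.ka, Co2.kn, Co2.kb]) :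
    ∀ i < 3, ∃ q : Co2.H, Rep 12 2300 (tab.getD i (oneK 12 2300)) ((Co2.H).subtype q) := by
  intro i hi
  have : tab.getD i (oneK 12 2300) = (tab.take 3).getD i (oneK 12 2300) := by
    simp [List.getD_eq_getElem?_getD, List.getElem?_take, hi]
  rw [this, h]
  interval_cases i
  · exact ⟨⟨Co2.pA, Co2.A_mem⟩, Co2.rep_A⟩
  · exact ⟨⟨Co2.pN, Co2.N_mem⟩, Co2.rep_N⟩
  · exact ⟨⟨Co2.pB, Co2.B_mem⟩, Co2.rep_B⟩

theorem factorization_two (Γ : Type) [Group Γ] [Finite Γ] (σ : Γ →* Co2.H) (hσ : Cfsg.IsStemExtension σ) :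
    (Nat.card σ.ker).factorization 2 = 0 := by
  haveI := Fact.mk Nat.prime_two
  obtain ⟨hs, hDp, hr, ha, hb, hQ, hm, hqc⟩ := cert2_shape
  have hslp := Tails.exists_slp (Co2.H).subtype Co2.hw (base_mem slp2_ok.2) slp2_ok.1
  have := Tails.factorization_of_perm_dense (Co2.H).subtype Co2.hw Subtype.coe_injective cert2 dense2
    (Tails.exists_pick _ Co2.hw hslp pick2_ok.1) (Tails.exists_pick _ Co2.hw hslp pick2_ok.2)
    cert2_eqs cert2_comb hs rels2_ok fus2_ok (p := 2) hDp hr ha chain2_ok chain2in_ok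
    Co2.H_spec.2.1 hQ hm hqc Γ σ hσ
  simpa [hb] using this

theorem factorization_three (Γ : Type) [Group Γ] [Finite Γ] (σ : Γ →* Co2.H) (hσ : Cfsg.IsStemExtension σ) :
    (Nat.card σ.ker).factorization 3 = 0 := by
  haveI := Fact.mk Nat.prime_three
  obtain ⟨hs, hDp, hr, ha, hb, hQ, hm, hqc⟩ := cert3_shape
  have hslp := Tails.exists_slp (Co2.H).subtype Co2.hw (base_mem slp3_ok.2) slp3_ok.1
  have := Tails.factorization_of_perm_dense (Co2.H).subtype Co2.hw Subtype.coe_injective cert3 dense3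
    (Tails.exists_pick _ Co2.hw hslp pick3_ok.1) (Tails.exists_pick _ Co2.hw hslp pick3_ok.2)
    cert3_eqs cert3_comb hs rels3_ok fus3_ok (p := 3) hDp hr ha chain3_ok chain3in_ok
    Co2.H_spec.2.1 hQ hm hqc Γ σ hσ
  simpa [hb] using this

theorem factorization_five (Γ : Type) [Group Γ] [Finite Γ] (σ : Γ →* Co2.H) (hσ : Cfsg.IsStemExtension σ) :
    (Nat.card σ.ker).factorization 5 = 0 := by
  haveI := Fact.mk (show Nat.Prime 5 by norm_num)
  obtain ⟨hs, hDp, hr, ha, hb, hQ, hm, hqc⟩ := cert5_shape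
  have hslp := Tails.exists_slp (Co2.H).subtype Co2.hw (base_mem slp5_ok.2) slp5_ok.1
  have := Tails.factorization_of_perm_dense (Co2.H).subtype Co2.hw Subtype.coe_injective cert5 dense5
    (Tails.exists_pick _ Co2.hw hslp pick5_ok.1) (Tails.exists_pick _ Co2.hw hslp pick5_ok.2)
    cert5_eqs cert5_comb hs rels5_ok fus5_ok (p := 5) hDp hr ha chain5_ok chain5in_ok
    Co2.H_spec.2.1 hQ hm hqc Γ σ hσ
  simpa [hb] using this

theorem factorization_big (Γ : Type) [Group Γ] [Finite Γ] (σ : Γ →* Co2.H) (hσ : Cfsg.IsStemExtension σ)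
    {m : ℕ} (hmp : m.Prime) {j : ℕ} (hj : j < 3) (hm : [7, 11, 23].getD j 0 = m)
    (hm2 : ¬ m ^ 2 ∣ 42305421312000) : (Nat.card σ.ker).factorization m = 0 := by
  haveI := Fact.mk hmp
  obtain ⟨h1, h2, h3⟩ := ord_ok
  have h := List.all_eq_true.1 h2 j (List.mem_range.2 hj)
  simp only [Bool.and_eq_true, Bool.not_eq_true', beq_eq_false_iff_ne, beq_iff_eq, hm] at h
  have hmem := Tails.exists_pick (Co2.H).subtype Co2.hw
    (Tails.exists_slp (Co2.H).subtype Co2.hw (base_mem slp2_ok.2) slp2_ok.1) h1 j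
  have hd : ordK.getD j (oneK 12 2300) = ordK.getD j 0 := by
    rw [List.getD_eq_getElem _ _ (h3 ▸ hj), List.getD_eq_getElem _ _ (h3 ▸ hj)]
  rw [hd] at hmem
  obtain ⟨q, hq⟩ := Tails.exists_orderOf (Co2.H).subtype Co2.hw Subtype.coe_injective hmem h.1.1 h.1.2 h.2
  exact Tails.factorization_card_ker_of_orderOf σ hσ q (k := 1) (by rw [hq, pow_one])
    (by rwa [Co2.H_spec.2.1])

theorem hasMultiplier : Cfsg.HasCyclicSchurMultiplier Co2.H 1 := by
  refine Basic.hasCyclicSchurMultiplier_one_of fun Γ _ _ σ hσ => Subgroup.card_eq_one.1 ?_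
  refine le_antisymm (Tails.card_ker_le σ hσ one_ne_zero fun p hp hd => ?_) Nat.card_pos
  rw [Co2.H_spec.2.1] at hd
  have h1 : p ∣ 2 ^ 18 * 3 ^ 6 * 5 ^ 3 * 7 * 11 * 23 := hd
  have q : ∀ r : ℕ, r.Prime → p ∣ r → p = r := fun r hr h => (Nat.prime_dvd_prime_iff_eq hp hr).1 h
  simp only [Nat.Prime.dvd_mul hp] at h1
  rcases h1 with ((((h1 | h1) | h1) | h1) | h1) | h1
  · rw [q 2 Nat.prime_two (hp.dvd_of_dvd_pow h1), factorization_two Γ σ hσ]; exact Nat.zero_le _
  · rw [q 3 Nat.prime_three (hp.dvd_of_dvd_pow h1), factorization_three Γ σ hσ]; exact Nat.zero_le _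
  · rw [q 5 (by norm_num) (hp.dvd_of_dvd_pow h1), factorization_five Γ σ hσ]; exact Nat.zero_le _
  · rw [q 7 (by norm_num) h1, factorization_big Γ σ hσ (m := 7) (j := 0) (by norm_num) (by norm_num) rfl (by norm_num)]
    exact Nat.zero_le _
  · rw [q 11 (by norm_num) h1, factorization_big Γ σ hσ (m := 11) (j := 1) (by norm_num) (by norm_num) rfl (by norm_num)]
    exact Nat.zero_le _
  · rw [q 23 (by norm_num) h1, factorization_big Γ σ hσ (m := 23) (j := 2) (by norm_num) (by norm_num) rfl (by norm_num)]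
    exact Nat.zero_le _

end CfsgLib.Schur.Sporadic.Co2
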